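import Groth.Agent.Lib.TensorMod.TensorQCoh
import Groth.Agent.Lib.TensorMod.QCohInv
import Groth.Agent.Lib.TensorMod.Invertible
import Groth.Agent.Lib.Ample.GG
import Groth.Agent.Lib.Modules.Support
import Groth.Agent.Lib.Modules.StalkRestrict
import Groth.Agent.Lib.CohBasics.Closure
import Mathlib.RingTheory.Length

/-!
# Twisting by an invertible module: exactness, coherence, stalks
-/

set_option autoImplicit false
universe u

open CategoryTheory CategoryTheory.Limits AlgebraicGeometry

namespace Groth.Agent.Lib.Snapper.Twist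

open Groth.Agent.Lib.TensorMod.Basic Groth.Agent.Lib.TensorMod.Invertible
open Groth.Agent.Lib.Modules
open Groth.Agent.Lib.TensorMod.Dual (dual)

variable {X : Scheme.{u}} {M : X.Modules}

/-- `G ↦ M ⊗ G` is an equivalence when `M` is invertible. -/
theorem isEquivalence_twist (hM : PicF.IsInvertible M) :
    ((tensorFunctor X).obj M).IsEquivalence := by
  let η : ∀ (A B : X.Modules) (_ : CohB1.tensorMod A B ≅ Coh.structureModule X),
      (tensorFunctor X).obj B ⋙ (tensorFunctor X).obj A ≅ 𝟭 X.Modules := fun A B e =>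
    NatIso.ofComponents (fun G => (assoc A B G).symm ≪≫ tensorIso e (Iso.refl G) ≪≫ leftUnit G)
      fun {G G'} f => by
        change tmap (𝟙 A) (tmap (𝟙 B) f) ≫ (assoc A B G').inv ≫ tmap e.hom (𝟙 G') ≫ (leftUnit G').hom =
          ((assoc A B G).inv ≫ tmap e.hom (𝟙 G) ≫ (leftUnit G).hom) ≫ f
        have h1 : tmap (𝟙 A) (tmap (𝟙 B) f) ≫ (assoc A B G').inv =
            (assoc A B G).inv ≫ tmap (tmap (𝟙 A) (𝟙 B)) f := by
          rw [Iso.eq_inv_comp, ← Category.assoc, ← assoc_natural, Category.assoc, Iso.hom_inv_id,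
            Category.comp_id]
        have h2 : tmap e.hom (𝟙 G) ≫ tmap (𝟙 _) f = tmap e.hom f := by
          rw [← tmap_comp, Category.comp_id, Category.id_comp]
        have h3 : tmap (tmap (𝟙 A) (𝟙 B)) f ≫ tmap e.hom (𝟙 G') = tmap e.hom f := by
          rw [← tmap_comp, Category.comp_id, tmap_id, Category.id_comp]
        rw [← Category.assoc, h1, Category.assoc, ← Category.assoc (tmap (tmap (𝟙 A) (𝟙 B)) f), h3,
          ← h2, Category.assoc, leftUnit_natural, Category.assoc, Category.assoc]
  let M' := dual M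
  let e : CohB1.tensorMod M M' ≅ Coh.structureModule X := tensorDualIso hM
  exact (CategoryTheory.Equivalence.mk ((tensorFunctor X).obj M) ((tensorFunctor X).obj M')
    (η M' M (comm M' M ≪≫ e)).symm (η M M' e)).isEquivalence_functor

/-- The twist of a short exact sequence. -/
noncomputable def twistSeq (M : X.Modules) (S : ShortComplex X.Modules) :
    ShortComplex X.Modules where
  f := tmap (𝟙 M) S.f
  g := tmap (𝟙 M) S.g
  zero := by
    rw [← tmap_comp, Category.comp_id, S.zero]
    haveI : PreservesColimitsOfShape (Discrete PEmpty.{1}) ((tensorFunctor X).obj M) :=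
      (preservesSmallestColimits_of_preservesColimits _).preservesColimitsOfShape
    haveI : ((tensorFunctor X).obj M).PreservesZeroMorphisms :=
      Functor.preservesZeroMorphisms_of_preserves_initial_object
    exact ((tensorFunctor X).obj M).map_zero _ _

theorem twistSeq_shortExact (hM : PicF.IsInvertible M) {S : ShortComplex X.Modules}
    (hS : S.ShortExact) : (twistSeq M S).ShortExact := by
  haveI := isEquivalence_twist hM
  haveI : ((tensorFunctor X).obj M).Additive :=
    Functor.additive_of_preserves_binary_products _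
  exact hS.map_of_exact ((tensorFunctor X).obj M)

theorem isCoh_structureModule (X : Scheme.{u}) : Coh.IsCoh (Coh.structureModule X) :=
  Ample.GG.isCoh_of_isInvertible (PicLoc.isInvertible_structureModule X)

theorem isCoh_twist (hM : PicF.IsInvertible M) {G : X.Modules}
    (hG : Coh.IsCoh G) : Coh.IsCoh (CohB1.tensorMod M G) := by
  obtain ⟨h1, h2⟩ := Ample.GG.isCoh_of_isInvertible hM
  obtain ⟨h3, h4⟩ := hG
  exact ⟨TensorMod.TensorQCoh.isQCoh_tensorMod M G, TensorMod.TensorQCoh.isFiniteType_tensorMod M G⟩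

theorem exists_stalkEquiv_twist (hM : PicF.IsInvertible M) (G : X.Modules) (y : X) :
    Nonempty ((CohB1.tensorMod M G).presheaf.stalk y ≃ₗ[X.presheaf.stalk y] G.presheaf.stalk y) := by
  obtain ⟨U, hy, ⟨i⟩⟩ := hM y
  obtain ⟨y', rfl⟩ : ∃ y' : (U : Scheme.{u}), U.ι y' = y := ⟨⟨y, hy⟩, rfl⟩
  let φ : (CohB1.tensorMod M G).restrict U.ι ≅ G.restrict U.ι :=
    TensorMod.Pullback.restrictTensorIso U.ι M G ≪≫ tensorIso i (Iso.refl _) ≪≫ leftUnit _
  let R₁ := StalkRestrict.restrictStalkAddEquiv U.ι (CohB1.tensorMod M G) y'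
  let R₂ := StalkRestrict.restrictStalkAddEquiv U.ι G y'
  let e := StalkModule.stalkLinearEquiv φ y'
  refine ⟨{ (R₁.symm.trans e.toAddEquiv).trans R₂ with map_smul' := fun a v => ?_ }⟩
  obtain ⟨w, rfl⟩ := R₁.surjective v
  simp only [AddEquiv.toEquiv_eq_coe, Equiv.toFun_as_coe, EquivLike.coe_coe, RingHom.id_apply,
    AddEquiv.trans_apply]
  have h1 : R₁.symm (a • R₁ w) = U.ι.stalkMap y' a • w :=
    R₁.injective ((R₁.apply_symm_apply _).trans
      (StalkRestrict.restrictStalkAddEquiv_smul U.ι (CohB1.tensorMod M G) y' a w).symm)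
  refine (congrArg (fun z => R₂ (e.toAddEquiv z)) h1).trans ?_
  rw [AddEquiv.symm_apply_apply]
  exact (congrArg R₂ (map_smul e _ w)).trans
    (StalkRestrict.restrictStalkAddEquiv_smul U.ι G y' a (e w))

theorem support_twist (hM : PicF.IsInvertible M) (G : X.Modules) :
    CohB1.support (CohB1.tensorMod M G) = CohB1.support G := by
  ext y
  obtain ⟨e⟩ := exists_stalkEquiv_twist hM G y
  exact not_congr e.toEquiv.subsingleton_congr

theorem length_twist (hM : PicF.IsInvertible M) (G : X.Modules) (y : X) :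
    Module.length (X.presheaf.stalk y) ((CohB1.tensorMod M G).presheaf.stalk y) =
      Module.length (X.presheaf.stalk y) (G.presheaf.stalk y) :=
  (exists_stalkEquiv_twist hM G y).some.length_eq

end Groth.Agent.Lib.Snapper.Twist
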