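import Groth.Prelude.Def_FGA
import Groth.Prelude.Def_CurvBase
import Groth.Agent.Lib.Curves.LES
import Groth.Agent.Lib.Curves.Euler
import Groth.Agent.Lib.GrothVan.Main
import Mathlib.AlgebraicGeometry.Noetherian

/-!
# The Euler characteristic `eulerCharLE` in short exact sequences

`CohFinite k X`: finite dimensional cohomology of coherent modules; under it `eulerCharLE` is additive
as soon as the degree bound dominates the dimension.
-/

set_option autoImplicit false
universe u

open CategoryTheory CategoryTheory.Limits AlgebraicGeometry TopologicalSpace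

namespace Groth.Agent.Lib.Snapper.Chi

open Groth.Agent.Lib.Curves.LES Groth.Agent.Lib.Curves.Euler

variable (k : Type u) [Field k] (X : Scheme.{u}) [X.Over (Spec (CommRingCat.of k))]

/-- Coherent modules have finite dimensional cohomology. -/
def CohFinite : Prop :=
  ∀ F : X.Modules, Coh.IsCoh F → ∀ i : ℕ, FiniteDimensional k (Coh.HH X F i)

variable {k X}

theorem subsingleton_HH_of_lt [NoetherianSpace X] {d : ℕ} (hd : topologicalKrullDim X ≤ d)
    (F : X.Modules) {p : ℕ} (hp : d < p) : Subsingleton (Coh.HH X F p) :=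
  GrothVan.H_subsingleton d hd (Coh.toAb F) p hp

theorem eulerCharLE_of_iso {F G : X.Modules} (e : F ≅ G) (d : ℕ) :
    FGA.eulerCharLE k X F d = FGA.eulerCharLE k X G d := by
  unfold FGA.eulerCharLE
  exact Finset.sum_congr rfl fun i _ => by rw [(isoK k e i).finrank_eq]

theorem eulerCharLE_isZero {F : X.Modules} (h : IsZero F) (d : ℕ) :
    FGA.eulerCharLE k X F d = 0 := by
  unfold FGA.eulerCharLE
  refine Finset.sum_eq_zero fun i _ => ?_
  have : Subsingleton (Coh.HH X F i) := by
    refine subsingleton_of_forall_eq 0 fun x => ?_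
    have h1 : mapK k (𝟙 F) i x = x := by rw [mapK_id]; rfl
    have h2 : mapK k (0 : F ⟶ F) i x = 0 := by
      show Sheaf.H.map (toAbMap (0 : F ⟶ F)) i x = 0
      rw [toAbMap, Functor.map_zero]
      show Abelian.Ext.comp x (Abelian.Ext.mk₀ 0) (add_zero i) = 0
      rw [Abelian.Ext.mk₀_zero, Abelian.Ext.comp_zero]
    rw [← h1, h.eq_of_src (𝟙 F) 0, h2]
  simp [Module.finrank_zero_of_subsingleton]

/-- Additivity of the Euler characteristic in short exact sequences of coherent modules. -/
theorem eulerCharLE_add [NoetherianSpace X] (hfin : CohFinite k X) {d : ℕ}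
    (hd : topologicalKrullDim X ≤ d) {S : ShortComplex X.Modules} (hS : S.ShortExact)
    (h₁ : Coh.IsCoh S.X₁) (h₂ : Coh.IsCoh S.X₂) (h₃ : Coh.IsCoh S.X₃) :
    FGA.eulerCharLE k X S.X₂ d =
      FGA.eulerCharLE k X S.X₁ d + FGA.eulerCharLE k X S.X₃ d := by
  haveI := hS.mono_f
  haveI := fun i => hfin _ h₁ i
  haveI := fun i => hfin _ h₂ i
  haveI := fun i => hfin _ h₃ i
  let a : ℕ → ℤ := fun i => Module.finrank k (Coh.HH X S.X₁ i)
  let b : ℕ → ℤ := fun i => Module.finrank k (Coh.HH X S.X₂ i)
  let c : ℕ → ℤ := fun i => Module.finrank k (Coh.HH X S.X₃ i)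
  let δ : ℕ → ℤ := fun i => Module.finrank k (LinearMap.range (δK k hS i (i + 1) rfl))
  have key : ∀ n : ℕ, ∑ i ∈ Finset.range (n + 1), (-1 : ℤ) ^ i * (b i - a i - c i) =
      -((-1 : ℤ) ^ n * δ n) := by
    intro n
    induction n with
    | zero =>
      have e₁ := finrank_range_add_finrank_range (exactK₂ k hS 0)
      have e₂ := finrank_range_add_finrank_range (exactK₃ k hS 0 (0 + 1) rfl)
      rw [LinearMap.finrank_range_of_inj (mapK_injective_of_mono k S.f)] at e₁
      simp only [Finset.sum_range_succ, Finset.sum_range_zero, pow_zero, one_mul, a, b, c, δ]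
      omega
    | succ n ih =>
      rw [Finset.sum_range_succ, ih]
      have e₀ := finrank_range_add_finrank_range (exactK₁ k hS n (n + 1) rfl)
      have e₁ := finrank_range_add_finrank_range (exactK₂ k hS (n + 1))
      have e₂ := finrank_range_add_finrank_range (exactK₃ k hS (n + 1) (n + 1 + 1) rfl)
      have e : b (n + 1) - a (n + 1) - c (n + 1) = -δ n - δ (n + 1) := by
        simp only [a, b, c, δ]; omega
      rw [e, pow_succ]
      ring
  have hlast : δ d = 0 := by
    haveI := subsingleton_HH_of_lt hd S.X₁ (Nat.lt_succ_self d)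
    simp only [δ, Nat.cast_eq_zero]
    exact Nat.le_zero.1 ((Submodule.finrank_le _).trans_eq Module.finrank_zero_of_subsingleton)
  have := key d
  rw [hlast, mul_zero, neg_zero] at this
  unfold FGA.eulerCharLE
  simp only [mul_sub, Finset.sum_sub_distrib, a, b, c] at this
  linarith

theorem euler_eq_eulerCharLE [NoetherianSpace X] {d : ℕ} (hd : topologicalKrullDim X ≤ d)
    (F : X.Modules) : Curv2.euler k X F = FGA.eulerCharLE k X F d := by
  unfold Curv2.euler FGA.eulerCharLE
  rw [finsum_eq_sum_of_support_subset _ (s := Finset.range (d + 1))]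
  intro i hi
  by_contra hc
  simp only [Finset.coe_range, Set.mem_Iio, not_lt] at hc
  haveI := subsingleton_HH_of_lt hd F (p := i) (by omega)
  exact hi (by simp [Module.finrank_zero_of_subsingleton])

theorem eulerCharLE_eq_of_le [NoetherianSpace X] {d e : ℕ} (hd : topologicalKrullDim X ≤ d)
    (hde : d ≤ e) (F : X.Modules) : FGA.eulerCharLE k X F e = FGA.eulerCharLE k X F d := by
  rw [← euler_eq_eulerCharLE hd, ← euler_eq_eulerCharLE (hd.trans (by exact_mod_cast hde))]

end Groth.Agent.Lib.Snapper.Chi
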