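import Groth.Agent.Lib.ProperFin.Assembly
import Groth.Agent.Lib.ProperFin.ProjFacts
import Groth.Agent.Lib.ProjCoh.Coherent
import Groth.Agent.Lib.Snapper.Chi

/-!
# `CohFinite` for proper schemes over a field
-/

set_option autoImplicit false
universe u

open CategoryTheory CategoryTheory.Limits AlgebraicGeometry

namespace Groth.Agent.Lib.Snapper.Finite

open Groth.Agent.Lib Groth.Agent.Lib.TensorMod.Basic

theorem facts : ProperFin.Projective.Facts.{u} := by
  refine ProperFin.ProjFacts.facts_of (fun n R _ _ N hN q => ProjCoh.Coherent.finite_HH N hN q)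
    fun n R _ _ N hN => ?_
  obtain ⟨d₀, h⟩ := ProjCoh.Coherent.exists_forall_subsingleton N hN
  refine ⟨d₀, fun d hd q => ?_⟩
  haveI := h (d : ℤ) (by exact_mod_cast hd) q
  exact (Curves.LES.isoK R (comm _ N) (q + 1)).toEquiv.subsingleton

/-- Coherent cohomology of a proper scheme over a field is finite dimensional. -/
theorem cohFinite (k : Type u) [Field k] (X : Scheme.{u}) [X.Over (Spec (CommRingCat.of k))]
    [IsProper (X ↘ Spec (CommRingCat.of k))] : Chi.CohFinite k X :=
  fun F hF i => ProperFin.Assembly.qfin_of_isCoh facts F hF i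

end Groth.Agent.Lib.Snapper.Finite
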