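import Groth.Agent.Lib.VarDim.Basic
import Groth.Agent.Lib.VarDim.Fibre
import Groth.Agent.Lib.Devissage.Dim
import Groth.Agent.Lib.Curves.GlobalSections

/-!
# A scheme proper over a field has finite dimension
-/

set_option autoImplicit false
set_option linter.style.haveILetI false
universe u

open CategoryTheory CategoryTheory.Limits AlgebraicGeometry TopologicalSpace

namespace Groth.Agent.Lib.Snapper.DimBound

open Groth.Agent.Lib

theorem exists_dim_bound (k : Type u) [Field k] (X : Scheme.{u}) [X.Over (Spec (CommRingCat.of k))]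
    [IsProper (X ↘ Spec (CommRingCat.of k))] :
    ∃ d : ℕ, topologicalKrullDim X ≤ d := by
  haveI := Curves.GlobalSections.isNoetherian_of_proper k X
  let f := X ↘ Spec (CommRingCat.of k)
  have hmax := Devissage.Dim.finite_maximal (X := X) (T := Set.univ) isClosed_univ
  refine ⟨hmax.toFinset.sup (VarDim.Basic.pdim f), ?_⟩
  have h : topologicalKrullDim (Set.univ : Set X) ≤
      ((hmax.toFinset.sup (VarDim.Basic.pdim f) : ℕ) : WithBot ℕ∞) := by
    refine (VarDim.Basic.topologicalKrullDim_le_iff f isClosed_univ.isLocallyClosed _).2 fun x _ => ?_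
    obtain ⟨y, -, hy, hmy, -⟩ := VarDim.Fibre.exists_maximal (T := (Set.univ : Set X)) isClosed_univ
      (x := x) trivial
    have hy' : y ∈ hmax.toFinset := hmax.mem_toFinset.2 ⟨trivial, hmy⟩
    exact_mod_cast le_trans (VarDim.Basic.pdim_le f hy) (Finset.le_sup (f := VarDim.Basic.pdim f) hy')
  exact ((Homeomorph.Set.univ X).isHomeomorph.topologicalKrullDim_eq).symm.trans_le h

end Groth.Agent.Lib.Snapper.DimBound
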