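import Groth.Agent.Lib.Snapper.Vanish
import Mathlib.Data.Fintype.Powerset
import Mathlib.Data.Finset.Sort

/-!
# `FGA.intNum` as an iterated difference; symmetry, linearity and inverses
-/

set_option autoImplicit false
set_option linter.style.haveILetI false
universe u

open CategoryTheory CategoryTheory.Limits AlgebraicGeometry TopologicalSpace

namespace Groth.Agent.Lib.Snapper.IntNum

open Groth.Agent.Lib.TensorMod.Basic
open Groth.Agent.Lib.Snapper.Vanish
open Groth.Agent.Lib

variable {k : Type u} [Field k] {X : Scheme.{u}} [X.Over (Spec (CommRingCat.of k))] {d : ℕ}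

/-- Tensor product of a list, up to permutation. -/
theorem tensorList_perm {l l' : List X.Modules} (h : l.Perm l') :
    Nonempty (FGA.tensorList l ≅ FGA.tensorList l') := by
  induction h with
  | nil => exact ⟨Iso.refl _⟩
  | cons M _ ih => exact ⟨tensorIso (Iso.refl M) ih.some⟩
  | swap M N l =>
    exact ⟨(assoc N M _).symm ≪≫ tensorIso (comm N M) (Iso.refl _) ≪≫ assoc M N _⟩
  | trans _ _ ih ih' => exact ⟨ih.some ≪≫ ih'.some⟩

/-- The summand of `intNum` at a set of indices, computed with any enumeration. -/
theorem chi_perm {l l' : List X.Modules} (h : l.Perm l') (F : X.Modules) :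
    FGA.eulerCharLE k X (CohB1.tensorMod (FGA.tensorList l) F) d =
      FGA.eulerCharLE k X (CohB1.tensorMod (FGA.tensorList l') F) d :=
  Chi.eulerCharLE_of_iso (tensorIso (tensorList_perm h).some (Iso.refl F)) d

theorem intNum_eq_sum_toList {r : ℕ} (M : Fin r → X.Modules) (F : X.Modules) :
    FGA.intNum k X d M F = ∑ I : Finset (Fin r),
      (-1 : ℤ) ^ I.card *
        FGA.eulerCharLE k X (CohB1.tensorMod (FGA.tensorList (I.toList.map M)) F) d :=
  Finset.sum_congr rfl fun I _ => by
    rw [chi_perm ((I.sort_perm_toList (· ≤ ·)).map M)]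

/-- The recursion `intNum (M₀ :: M) F = intNum M F - intNum M (M₀ ⊗ F)`. -/
theorem intNum_cons {r : ℕ} (M₀ : X.Modules) (M : Fin r → X.Modules) (F : X.Modules) :
    FGA.intNum k X d (Fin.cons M₀ M : Fin (r + 1) → X.Modules) F =
      FGA.intNum k X d M F - FGA.intNum k X d M (CohB1.tensorMod M₀ F) := by
  classical
  simp only [intNum_eq_sum_toList]
  let f : Finset (Fin (r + 1)) → ℤ := fun I => (-1 : ℤ) ^ I.card *
    FGA.eulerCharLE k X (CohB1.tensorMod
      (FGA.tensorList (I.toList.map (Fin.cons M₀ M : Fin (r + 1) → X.Modules))) F) d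
  change ∑ I, f I = _
  let s : Finset (Fin (r + 1)) := Finset.univ.map (Fin.succEmb r)
  have h0 : (0 : Fin (r + 1)) ∉ s := by simp [s, Fin.succ_ne_zero]
  have hu : (Finset.univ : Finset (Fin (r + 1))) = insert 0 s := by
    ext i
    cases i using Fin.cases <;> simp [s]
  rw [show (Finset.univ : Finset (Finset (Fin (r + 1)))) = (insert 0 s).powerset by
    rw [← hu, Finset.powerset_univ], Finset.sum_powerset_insert h0]
  have himg : s.powerset = (Finset.univ : Finset (Finset (Fin r))).map
      (Finset.mapEmbedding (Fin.succEmb r)).toEmbedding := by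
    ext J
    simp only [Finset.mem_powerset, Finset.mem_map, Finset.mem_univ, true_and, s,
      Finset.subset_map_iff]
    constructor
    · rintro ⟨I, -, rfl⟩; exact ⟨I, rfl⟩
    · rintro ⟨I, rfl⟩; exact ⟨I, Finset.subset_univ _, rfl⟩
  rw [himg, Finset.sum_map, Finset.sum_map, ← Finset.sum_sub_distrib, ← Finset.sum_add_distrib]
  refine Finset.sum_congr rfl fun I _ => ?_
  simp only [RelEmbedding.coe_toEmbedding, Finset.mapEmbedding_apply, f]
  have hni : (0 : Fin (r + 1)) ∉ I.map (Fin.succEmb r) := by simp [Fin.succ_ne_zero]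
  have p₁ : (I.map (Fin.succEmb r)).toList.Perm (I.toList.map Fin.succ) :=
    (List.perm_ext_iff_of_nodup (Finset.nodup_toList _)
      (I.nodup_toList.map (Fin.succ_injective r))).2 fun i => by simp
  have p₂ : (insert 0 (I.map (Fin.succEmb r))).toList.Perm (0 :: I.toList.map Fin.succ) :=
    (Finset.toList_insert hni).trans (p₁.cons 0)
  have hcomp : (Fin.cons M₀ M : Fin (r + 1) → X.Modules) ∘ Fin.succ = M := by
    funext i; simp
  rw [Finset.card_map, Finset.card_insert_of_notMem hni, Finset.card_map, pow_succ,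
    chi_perm (p₁.map _), chi_perm (p₂.map _), List.map_cons, List.map_map, hcomp, Fin.cons_zero,
    FGA.tensorList]
  have e : CohB1.tensorMod (CohB1.tensorMod M₀ (FGA.tensorList (I.toList.map M))) F ≅
      CohB1.tensorMod (FGA.tensorList (I.toList.map M)) (CohB1.tensorMod M₀ F) :=
    tensorIso (comm M₀ _) (Iso.refl F) ≪≫ assoc _ _ _
  rw [Chi.eulerCharLE_of_iso e d]
  ring

theorem intNum_zero (M : Fin 0 → X.Modules) (F : X.Modules) :
    FGA.intNum k X d M F = FGA.eulerCharLE k X F d := by
  unfold FGA.intNum
  rw [Fintype.sum_eq_single (∅ : Finset (Fin 0)) fun I hI => absurd (Subsingleton.elim I ∅) hI]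
  simp only [Finset.card_empty, pow_zero, one_mul, Finset.sort_empty, List.map_nil, FGA.tensorList]
  exact Chi.eulerCharLE_of_iso (leftUnit F) d

/-- `intNum` is the iterated difference. -/
theorem intNum_eq_sym : ∀ {r : ℕ} (M : Fin r → X.Modules) (F : X.Modules),
    FGA.intNum k X d M F = sym k X d (List.ofFn M) F
  | 0, M, F => by rw [intNum_zero, List.ofFn_zero]; rfl
  | r + 1, M, F => by
    rw [show M = Fin.cons (M 0) (Fin.tail M) from (Fin.cons_self_tail M).symm, intNum_cons,
      intNum_eq_sym, intNum_eq_sym, List.ofFn_succ]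
    simp only [Fin.cons_zero, Fin.cons_succ, Fin.tail]
    rfl

theorem intNum_pair (L M F : X.Modules) : FGA.intNum k X d ![L, M] F = sym k X d [L, M] F :=
  intNum_eq_sym _ _

theorem sym_congr_cons {l l' : List X.Modules} (h : ∀ F, sym k X d l F = sym k X d l' F)
    (M : X.Modules) (F : X.Modules) : sym k X d (M :: l) F = sym k X d (M :: l') F := by
  rw [sym_cons, sym_cons, h, h]

theorem sym_swap (L M : X.Modules) (l : List X.Modules) (F : X.Modules) :
    sym k X d (L :: M :: l) F = sym k X d (M :: L :: l) F := by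
  have e : CohB1.tensorMod L (CohB1.tensorMod M F) ≅ CohB1.tensorMod M (CohB1.tensorMod L F) :=
    (assoc L M F).symm ≪≫ tensorIso (comm L M) (Iso.refl F) ≪≫ assoc M L F
  simp only [sym_cons, sym_of_iso l e]
  ring

/-- The symbol is symmetric. -/
theorem sym_perm {l l' : List X.Modules} (h : l.Perm l') : ∀ F : X.Modules,
    sym k X d l F = sym k X d l' F := by
  induction h with
  | nil => exact fun _ => rfl
  | cons M _ ih => exact sym_congr_cons ih M
  | swap M N l => exact fun F => sym_swap N M l F
  | trans _ _ ih ih' => exact fun F => (ih F).trans (ih' F)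

theorem sym_cons_iso {M M' : X.Modules} (e : M ≅ M') (l : List X.Modules) (F : X.Modules) :
    sym k X d (M :: l) F = sym k X d (M' :: l) F := by
  rw [sym_cons, sym_cons, sym_of_iso l (tensorIso e (Iso.refl F))]

theorem sym_structure (l : List X.Modules) (F : X.Modules) :
    sym k X d (Coh.structureModule X :: l) F = 0 := by
  rw [sym_cons, sym_of_iso l (leftUnit F), sub_self]

/-- The exact product rule. -/
theorem sym_tensor (L L' : X.Modules) (l : List X.Modules) (F : X.Modules) :
    sym k X d (CohB1.tensorMod L L' :: l) F =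
      sym k X d (L :: l) F + sym k X d (L' :: l) F - sym k X d (L :: L' :: l) F := by
  have e : CohB1.tensorMod L' (CohB1.tensorMod L F) ≅ CohB1.tensorMod (CohB1.tensorMod L L') F :=
    (assoc L' L F).symm ≪≫ tensorIso (comm L' L) (Iso.refl F)
  simp only [sym_cons, sym_of_iso l e]
  ring

variable [IsNoetherian X]

/-- Linearity in each variable when the number of factors is at least the dimension of the support. -/
theorem sym_tensor_of_dim (hfin : Chi.CohFinite k X) (hd : topologicalKrullDim X ≤ d)
    {L L' : X.Modules} (hL : PicF.IsInvertible L) (hL' : PicF.IsInvertible L')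
    (l : List X.Modules) (hl : ∀ M ∈ l, PicF.IsInvertible M) {F : X.Modules} (hF : Coh.IsCoh F)
    (hdim : topologicalKrullDim (CohB1.support F) < ((l.length + 2 : ℕ) : WithBot ℕ∞)) :
    sym k X d (CohB1.tensorMod L L' :: l) F = sym k X d (L :: l) F + sym k X d (L' :: l) F := by
  rw [sym_tensor, sym_eq_zero hfin hd (L :: L' :: l) (by simpa [hL, hL'] using hl) F hF
    (by simpa [add_assoc, one_add_one_eq_two] using hdim), sub_zero]

/-- The inverse changes the sign. -/
theorem sym_inverse (hfin : Chi.CohFinite k X) (hd : topologicalKrullDim X ≤ d) {L M : X.Modules}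
    (hL : PicF.IsInvertible L) (hM : PicF.IsInvertible M)
    (e : CohB1.tensorMod L M ≅ Coh.structureModule X)
    (l : List X.Modules) (hl : ∀ N ∈ l, PicF.IsInvertible N) {F : X.Modules} (hF : Coh.IsCoh F)
    (hdim : topologicalKrullDim (CohB1.support F) < ((l.length + 2 : ℕ) : WithBot ℕ∞)) :
    sym k X d (M :: l) F = - sym k X d (L :: l) F := by
  have h := sym_tensor_of_dim hfin hd hL hM l hl hF hdim
  rw [sym_cons_iso e, sym_structure] at h
  linarith

omit [AlgebraicGeometry.IsNoetherian X] in
theorem dim_support_lt {F : X.Modules} {n : ℕ} (hX : topologicalKrullDim X ≤ n) :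
    topologicalKrullDim (CohB1.support F) < ((n + 1 : ℕ) : WithBot ℕ∞) :=
  lt_of_le_of_lt ((Topology.IsInducing.subtypeVal.topologicalKrullDim_le).trans hX)
    (by exact_mod_cast Nat.lt_succ_self n)

/-- Bilinearity of the intersection number on a surface. -/
theorem intNum_pair_tensor_left (hfin : Chi.CohFinite k X) (hd : topologicalKrullDim X ≤ 2)
    {L L' M : X.Modules} (hL : PicF.IsInvertible L) (hL' : PicF.IsInvertible L')
    (hM : PicF.IsInvertible M) {F : X.Modules} (hF : Coh.IsCoh F) :
    FGA.intNum k X 2 ![CohB1.tensorMod L L', M] F =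
      FGA.intNum k X 2 ![L, M] F + FGA.intNum k X 2 ![L', M] F := by
  simp only [intNum_pair]
  exact sym_tensor_of_dim hfin (by exact_mod_cast hd) hL hL' [M] (by simpa using hM) hF
    (dim_support_lt hd)

omit [AlgebraicGeometry.IsNoetherian X] in
theorem intNum_pair_comm (L M F : X.Modules) :
    FGA.intNum k X d ![L, M] F = FGA.intNum k X d ![M, L] F := by
  simp only [intNum_pair]
  exact sym_swap L M [] F

theorem intNum_pair_inverse (hfin : Chi.CohFinite k X) (hd : topologicalKrullDim X ≤ 2)
    {L L' M : X.Modules} (hL : PicF.IsInvertible L) (hL' : PicF.IsInvertible L')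
    (e : CohB1.tensorMod L L' ≅ Coh.structureModule X)
    (hM : PicF.IsInvertible M) {F : X.Modules} (hF : Coh.IsCoh F) :
    FGA.intNum k X 2 ![L', M] F = - FGA.intNum k X 2 ![L, M] F := by
  simp only [intNum_pair]
  exact sym_inverse hfin (by exact_mod_cast hd) hL hL' e [M] (by simpa using hM) hF
    (dim_support_lt hd)

end Groth.Agent.Lib.Snapper.IntNum
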