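import Groth.Agent.Lib.Snapper.IntNum
import Groth.Prelude.Def_Curv2
import Mathlib.Algebra.MvPolynomial.Rename
import Mathlib.Algebra.MvPolynomial.Degrees
import Mathlib.Data.Nat.Choose.Cast
import Mathlib.Tactic.FieldSimp

/-!
# Snapper's theorem: polynomiality of `χ` in the twists
-/

set_option autoImplicit false
set_option linter.style.haveILetI false
universe u

open CategoryTheory CategoryTheory.Limits AlgebraicGeometry TopologicalSpace

namespace Groth.Agent.Lib.Snapper.Poly

open Groth.Agent.Lib.TensorMod.Basic
open Groth.Agent.Lib.Snapper.Vanish Groth.Agent.Lib.Snapper.IntNum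
open Groth.Agent.Lib

variable {k : Type u} [Field k] {X : Scheme.{u}} [X.Over (Spec (CommRingCat.of k))] {d : ℕ}

/-- `(L^{m+1}) ⊗ G ≅ L ⊗ (L^m ⊗ G)`. -/
noncomputable def powSuccIso (L G : X.Modules) (m : ℕ) :
    CohB1.tensorMod (CohB1.tensorPow L (m + 1)) G ≅
      CohB1.tensorMod L (CohB1.tensorMod (CohB1.tensorPow L m) G) :=
  tensorIso (comm (CohB1.tensorPow L m) L) (Iso.refl G) ≪≫ assoc _ _ _

/-- Binomial expansion `(1 - Δ)^m`. -/
theorem sym_pow_expansion (L : X.Modules) : ∀ (m : ℕ) (l : List X.Modules) (G : X.Modules),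
    sym k X d l (CohB1.tensorMod (CohB1.tensorPow L m) G) =
      ∑ i ∈ Finset.range (m + 1), (-1 : ℤ) ^ i * (m.choose i : ℤ) *
        sym k X d (List.replicate i L ++ l) G
  | 0, l, G => by
    simp only [zero_add, Finset.sum_range_one, pow_zero, Nat.choose_self, Nat.cast_one, one_mul,
      List.replicate_zero, List.nil_append]
    exact sym_of_iso l (leftUnit G)
  | m + 1, l, G => by
    have h1 : sym k X d l (CohB1.tensorMod (CohB1.tensorPow L (m + 1)) G) =
        sym k X d l (CohB1.tensorMod (CohB1.tensorPow L m) G) -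
          sym k X d (L :: l) (CohB1.tensorMod (CohB1.tensorPow L m) G) := by
      rw [sym_cons, sym_of_iso l (powSuccIso L G m)]; ring
    have h2 : ∀ i, List.replicate i L ++ L :: l = List.replicate (i + 1) L ++ l := fun i => by
      rw [List.replicate_succ', List.append_assoc]; rfl
    rw [h1, sym_pow_expansion L m l G, sym_pow_expansion L m (L :: l) G,
      Finset.sum_range_succ' (fun i => (-1 : ℤ) ^ i * ((m + 1).choose i : ℤ) * _) (m + 1),
      Finset.sum_range_succ' (fun i => (-1 : ℤ) ^ i * (m.choose i : ℤ) * _) m]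
    simp only [h2, Nat.choose_succ_succ, Nat.cast_add, Nat.choose_zero_right, Nat.cast_one,
      mul_add, add_mul, Finset.sum_add_distrib]
    have h3 : ∑ x ∈ Finset.range (m + 1), (-1 : ℤ) ^ (x + 1) * (m.choose (x + 1) : ℤ) *
        sym k X d (List.replicate (x + 1) L ++ l) G =
      ∑ x ∈ Finset.range m, (-1 : ℤ) ^ (x + 1) * (m.choose (x + 1) : ℤ) *
        sym k X d (List.replicate (x + 1) L ++ l) G := by
      rw [Finset.sum_range_succ]
      simp
    rw [h3]
    simp only [Nat.succ_eq_add_one, pow_succ, mul_neg, mul_one, neg_mul, Finset.sum_neg_distrib,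
      sub_eq_add_neg]
    ring

theorem tensorList_invertible {l : List X.Modules} (hl : ∀ M ∈ l, PicF.IsInvertible M) :
    PicF.IsInvertible (FGA.tensorList l) := by
  induction l with
  | nil => exact PicLoc.isInvertible_structureModule X
  | cons M l ih =>
    exact TensorMod.Invertible.isInvertible_tensorMod (hl M (by simp))
      (ih fun N hN => hl N (by simp [hN]))

theorem multiTwist_invertible {n : ℕ} {L : Fin n → X.Modules} (hL : ∀ i, PicF.IsInvertible (L i))
    (m : Fin n → ℕ) : PicF.IsInvertible (FGA.multiTwist L m) :=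
  tensorList_invertible fun M hM => by
    obtain ⟨i, -, rfl⟩ := List.mem_map.1 hM
    exact TensorMod.Invertible.isInvertible_tensorPow (hL i) _

/-- The binomial coefficient as a polynomial in the first variable. -/
noncomputable def binom (n i : ℕ) : MvPolynomial (Fin (n + 1)) ℚ :=
  MvPolynomial.C ((i.factorial : ℚ))⁻¹ *
    ∏ j ∈ Finset.range i, (MvPolynomial.X 0 - MvPolynomial.C (j : ℚ))

theorem eval_binom (n i : ℕ) (v : Fin (n + 1) → ℕ) :
    MvPolynomial.eval (fun j => (v j : ℚ)) (binom n i) = ((v 0).choose i : ℚ) := by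
  have key : ∀ a b : ℕ, (∏ j ∈ Finset.range b, ((a : ℚ) - (j : ℚ))) = (a.descFactorial b : ℚ) := by
    intro a b
    induction b with
    | zero => simp
    | succ b ih =>
      rw [Finset.prod_range_succ, ih, Nat.descFactorial_succ, Nat.cast_mul]
      rcases le_or_gt b a with h | h
      · rw [Nat.cast_sub h]; ring
      · simp [Nat.descFactorial_eq_zero_iff_lt.2 h]
  simp only [binom, map_mul, MvPolynomial.eval_C, map_prod, map_sub, MvPolynomial.eval_X]
  rw [key, Nat.descFactorial_eq_factorial_mul_choose, Nat.cast_mul]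
  field_simp

theorem totalDegree_binom (n i : ℕ) : (binom n i).totalDegree ≤ i := by
  refine (MvPolynomial.totalDegree_mul _ _).trans ?_
  rw [MvPolynomial.totalDegree_C, zero_add]
  refine (MvPolynomial.totalDegree_finset_prod _ _).trans ?_
  calc ∑ j ∈ Finset.range i, ((MvPolynomial.X 0 - MvPolynomial.C (j : ℚ)) :
        MvPolynomial (Fin (n + 1)) ℚ).totalDegree ≤ ∑ j ∈ Finset.range i, 1 :=
        Finset.sum_le_sum fun j _ => by
          refine (MvPolynomial.totalDegree_sub _ _).trans ?_
          rw [MvPolynomial.totalDegree_C, MvPolynomial.totalDegree_X]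
          exact le_of_eq (max_eq_left zero_le_one)
    _ = i := by simp

variable [IsNoetherian X]

/-- The symbol of a multiply twisted coherent module is polynomial in the exponents. -/
theorem exists_poly (hfin : Chi.CohFinite k X) (hd : topologicalKrullDim X ≤ d) {F : X.Modules}
    (hF : Coh.IsCoh F) (r : ℕ) (hr : topologicalKrullDim (CohB1.support F) ≤ r) :
    ∀ (n : ℕ) (L : Fin n → X.Modules) (_ : ∀ i, PicF.IsInvertible (L i)) (l : List X.Modules)
      (_ : ∀ M ∈ l, PicF.IsInvertible M),
      ∃ P : MvPolynomial (Fin n) ℚ, P.totalDegree ≤ r - l.length ∧ ∀ m : Fin n → ℕ,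
        (sym k X d l (CohB1.tensorMod (FGA.multiTwist L m) F) : ℚ) =
          MvPolynomial.eval (fun i => (m i : ℚ)) P
  | 0, L, _, l, _ => ⟨MvPolynomial.C (sym k X d l F : ℚ), by rw [MvPolynomial.totalDegree_C]; exact Nat.zero_le _, fun m => by
      rw [MvPolynomial.eval_C, sym_of_iso l (show CohB1.tensorMod (FGA.multiTwist L m) F ≅ F from
        tensorIso (eqToIso (by simp [FGA.multiTwist, FGA.tensorList])) (Iso.refl F) ≪≫ leftUnit F)]⟩
  | n + 1, L, hL, l, hl => by
    have hvan : ∀ (i : ℕ) (m : Fin n → ℕ), r < i + l.length →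
        sym k X d (List.replicate i (L 0) ++ l)
          (CohB1.tensorMod (FGA.multiTwist (Fin.tail L) m) F) = 0 := by
      intro i m hi
      refine sym_eq_zero hfin hd _ (fun M hM => ?_) _
        (Twist.isCoh_twist (multiTwist_invertible (L := Fin.tail L) (fun j => hL j.succ) m) hF) ?_
      · rcases List.mem_append.1 hM with h | h
        · rw [(List.mem_replicate.1 h).2]; exact hL 0
        · exact hl M h
      · rw [Twist.support_twist (multiTwist_invertible (L := Fin.tail L) (fun j => hL j.succ) m)]
        refine lt_of_le_of_lt hr ?_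
        simp only [List.length_append, List.length_replicate]
        exact_mod_cast hi
    have hmem : ∀ i, ∀ M ∈ List.replicate i (L 0) ++ l, PicF.IsInvertible M := by
      intro i M hM
      rcases List.mem_append.1 hM with h | h
      · rw [(List.mem_replicate.1 h).2]; exact hL 0
      · exact hl M h
    choose P hPd hPe using fun i => exists_poly hfin hd hF r hr n (Fin.tail L)
      (fun j => hL j.succ) (List.replicate i (L 0) ++ l) (hmem i)
    refine ⟨∑ i ∈ Finset.range (r - l.length + 1),
      MvPolynomial.C ((-1 : ℚ) ^ i) * binom n i * MvPolynomial.rename Fin.succ (P i), ?_, fun m => ?_⟩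
    · refine MvPolynomial.totalDegree_finsetSum_le fun i hi => ?_
      refine (MvPolynomial.totalDegree_mul _ _).trans ?_
      refine (add_le_add ((MvPolynomial.totalDegree_mul _ _).trans
        (add_le_add le_rfl (totalDegree_binom n i)))
        ((MvPolynomial.totalDegree_rename_le _ _).trans (hPd i))).trans ?_
      simp only [MvPolynomial.totalDegree_C, List.length_append, List.length_replicate]
      have := Finset.mem_range.1 hi
      omega
    · have hiso : CohB1.tensorMod (FGA.multiTwist L m) F ≅ CohB1.tensorMod (CohB1.tensorPow (L 0) (m 0))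
          (CohB1.tensorMod (FGA.multiTwist (Fin.tail L) (Fin.tail m)) F) :=
        tensorIso (eqToIso (by simp [FGA.multiTwist, FGA.tensorList, List.finRange_succ,
          Function.comp_def, Fin.tail])) (Iso.refl F) ≪≫ assoc _ _ _
      rw [sym_of_iso l hiso, sym_pow_expansion, map_sum]
      have ext1 : ∑ i ∈ Finset.range (m 0 + 1), (-1 : ℤ) ^ i * ((m 0).choose i : ℤ) *
          sym k X d (List.replicate i (L 0) ++ l)
            (CohB1.tensorMod (FGA.multiTwist (Fin.tail L) (Fin.tail m)) F) =
        ∑ i ∈ Finset.range (r - l.length + 1), (-1 : ℤ) ^ i * ((m 0).choose i : ℤ) *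
          sym k X d (List.replicate i (L 0) ++ l)
            (CohB1.tensorMod (FGA.multiTwist (Fin.tail L) (Fin.tail m)) F) := by
        rcases le_total (m 0 + 1) (r - l.length + 1) with h | h
        · refine Finset.sum_subset (Finset.range_subset_range.2 h) fun i _ hi => ?_
          simp only [Finset.mem_range, not_lt] at hi
          rw [Nat.choose_eq_zero_of_lt (by omega)]; simp
        · refine (Finset.sum_subset (Finset.range_subset_range.2 h) fun i _ hi => ?_).symm
          simp only [Finset.mem_range, not_lt] at hi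
          rw [hvan i _ (by omega), mul_zero]
      rw [ext1, Int.cast_sum]
      refine Finset.sum_congr rfl fun i _ => ?_
      simp only [map_mul, MvPolynomial.eval_C, eval_binom, MvPolynomial.eval_rename, Int.cast_mul,
        Int.cast_pow, Int.cast_neg, Int.cast_one, Int.cast_natCast, hPe i (Fin.tail m)]
      rfl

omit [AlgebraicGeometry.IsNoetherian X] in
/-- `F ⊗ L^{⊗ n}` in the two conventions. -/
theorem exists_tensorPowsIso (F : X.Modules) : ∀ (r : ℕ) (L : Fin r → X.Modules) (n : Fin r → ℕ),
    Nonempty (Curv2.tensorPows F r L n ≅ CohB1.tensorMod (FGA.multiTwist L n) F)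
  | 0, L, n => ⟨(leftUnit F).symm ≪≫
      tensorIso (eqToIso (by simp [FGA.multiTwist, FGA.tensorList])) (Iso.refl F)⟩
  | r + 1, L, n => by
    obtain ⟨e⟩ := exists_tensorPowsIso F r (fun i => L i.castSucc) (fun i => n i.castSucc)
    let f : Fin (r + 1) → X.Modules := fun i => CohB1.tensorPow (L i) (n i)
    have hp : ((List.finRange (r + 1)).map f).Perm
        (f (Fin.last r) :: ((List.finRange r).map fun i => f i.castSucc)) := by
      rw [List.finRange_succ_last, List.map_append, List.map_map, List.map_singleton]
      exact List.perm_append_singleton _ _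
    exact ⟨tensorIso e (Iso.refl _) ≪≫ comm _ _ ≪≫ (assoc _ _ _).symm ≪≫
      tensorIso (tensorList_perm hp).some.symm (Iso.refl F)⟩

end Groth.Agent.Lib.Snapper.Poly
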