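import Groth.Agent.Lib.Snapper.Chi
import Groth.Agent.Lib.Snapper.Twist
import Groth.Agent.Lib.ProperFin.Devissage
import Groth.Agent.Lib.Devissage.Dim
import Groth.Agent.Lib.Devissage.Closure

/-!
# Iterated differences of the Euler characteristic and Snapper's vanishing

`sym k X d l F` is the alternating sum `Σ_{I ⊆ l} (-1)^|I| χ((⊗_I) ⊗ F)`, defined recursively.
`sym_eq_zero`: it vanishes when there are more invertible modules than the dimension of the support.
-/

set_option autoImplicit false
set_option linter.style.haveILetI false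
universe u

open CategoryTheory CategoryTheory.Limits AlgebraicGeometry TopologicalSpace

namespace Groth.Agent.Lib.Snapper.Vanish

open Groth.Agent.Lib.TensorMod.Basic
open Groth.Agent.Lib.Devissage.Basic (CohIn)
open Groth.Agent.Lib

variable (k : Type u) [Field k] (X : Scheme.{u}) [X.Over (Spec (CommRingCat.of k))]

/-- The iterated difference of the Euler characteristic in degrees `≤ d`. -/
noncomputable def sym (d : ℕ) : List X.Modules → X.Modules → ℤ
  | [], F => FGA.eulerCharLE k X F d
  | M :: l, F => sym d l F - sym d l (CohB1.tensorMod M F)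

variable {k X} {d : ℕ}

theorem sym_cons (M : X.Modules) (l : List X.Modules) (F : X.Modules) :
    sym k X d (M :: l) F = sym k X d l F - sym k X d l (CohB1.tensorMod M F) := rfl

/-- Stated here so that the unfolding lemmas of `sym` are generated in this module once. -/
theorem sym_nil (F : X.Modules) : sym k X d [] F = FGA.eulerCharLE k X F d := by
  simp only [sym]

theorem sym_unfold (M : X.Modules) (l : List X.Modules) (F : X.Modules) :
    sym k X d (M :: l) F = sym k X d l F - sym k X d l (CohB1.tensorMod M F) := by
  rw [sym.eq_def]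

theorem sym_of_iso : ∀ (l : List X.Modules) {F G : X.Modules} (_ : F ≅ G),
    sym k X d l F = sym k X d l G
  | [], _, _, e => Chi.eulerCharLE_of_iso e d
  | M :: l, _, _, e => by
    rw [sym_cons, sym_cons, sym_of_iso l e, sym_of_iso l (tensorIso (Iso.refl M) e)]

theorem sym_isZero : ∀ (l : List X.Modules) (_ : ∀ M ∈ l, PicF.IsInvertible M) {F : X.Modules}
    (_ : IsZero F), sym k X d l F = 0
  | [], _, _, h => Chi.eulerCharLE_isZero h d
  | M :: l, hl, F, h => by
    have h' : IsZero (CohB1.tensorMod M F) := by
      rw [← Modules.Support.support_eq_empty_iff, Twist.support_twist (hl M (by simp)),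
        Modules.Support.support_eq_empty_iff]
      exact h
    rw [sym_cons, sym_isZero l (fun N hN => hl N (by simp [hN])) h,
      sym_isZero l (fun N hN => hl N (by simp [hN])) h', sub_zero]

theorem sym_add [IsNoetherian X] (hfin : Chi.CohFinite k X) (hd : topologicalKrullDim X ≤ d) :
    ∀ (l : List X.Modules) (_ : ∀ M ∈ l, PicF.IsInvertible M) {S : ShortComplex X.Modules}
      (_ : S.ShortExact) (_ : Coh.IsCoh S.X₁) (_ : Coh.IsCoh S.X₂) (_ : Coh.IsCoh S.X₃),
      sym k X d l S.X₂ = sym k X d l S.X₁ + sym k X d l S.X₃
  | [], _, _, hS, h₁, h₂, h₃ => Chi.eulerCharLE_add hfin hd hS h₁ h₂ h₃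
  | M :: l, hl, S, hS, h₁, h₂, h₃ => by
    have hM := hl M (by simp)
    have hl' : ∀ N ∈ l, PicF.IsInvertible N := fun N hN => hl N (by simp [hN])
    have e := sym_add hfin hd l hl' (Twist.twistSeq_shortExact hM hS) (Twist.isCoh_twist hM h₁)
      (Twist.isCoh_twist hM h₂) (Twist.isCoh_twist hM h₃)
    rw [sym_cons, sym_cons, sym_cons, sym_add hfin hd l hl' hS h₁ h₂ h₃,
      show sym k X d l (CohB1.tensorMod M S.X₂) = _ from e]
    change _ = _
    simp only [Twist.twistSeq]
    ring

theorem le_of_lt_succ {a : WithBot ℕ∞} {m : ℕ} (h : a < ((m + 1 : ℕ) : WithBot ℕ∞)) : a ≤ m := by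
  induction a with
  | bot => exact bot_le
  | coe a =>
    have h' : (a : WithBot ℕ∞) < ((↑(m + 1 : ℕ) : ℕ∞) : WithBot ℕ∞) := by simpa using h
    have h'' : a < ((m + 1 : ℕ) : ℕ∞) := WithBot.coe_lt_coe.1 h'
    have : a ≤ (m : ℕ∞) := Order.le_of_lt_add_one (by simpa using h'')
    exact_mod_cast this

/-- In closure of a point of dimension `≤ #l`, the symbol is a multiple of the length at that point. -/
theorem sym_eq_length_mul [IsNoetherian X] (hfin : Chi.CohFinite k X)
    (hd : topologicalKrullDim X ≤ d) (l : List X.Modules) (hl : ∀ M ∈ l, PicF.IsInvertible M)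
    (IH : ∀ G : X.Modules, Coh.IsCoh G →
      topologicalKrullDim (CohB1.support G) < (l.length : WithBot ℕ∞) → sym k X d l G = 0)
    (y : X) (hy : topologicalKrullDim (closure {y} : Set X) ≤ l.length)
    (G : X.Modules) (hG : CohIn (closure {y}) G) :
    sym k X d l G = (Module.length (X.presheaf.stalk y) (G.presheaf.stalk y)).toNat *
      sym k X d l (Cyc.closureStructureSheaf y) := by
  have hfinlen : ∀ H : X.Modules, CohIn (closure {y}) H →
      Module.length (X.presheaf.stalk y) (H.presheaf.stalk y) ≠ ⊤ := fun H hH =>
    Cyc.SheafLen.length_ne_top hH.1 y fun z hzy hz =>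
      (hzy.antisymm (specializes_iff_mem_closure.mpr
        (hH.2 (not_subsingleton_iff_nontrivial.mpr hz)))).eq
  refine ProperFin.Devissage.devissage
    (fun H => sym k X d l H = (Module.length (X.presheaf.stalk y) (H.presheaf.stalk y)).toNat *
      sym k X d l (Cyc.closureStructureSheaf y))
    ⟨closure {y}, isClosed_closure⟩ ⟨fun H hH => ?_, fun S hS h₁ h₂ h₃ => ?_⟩ ?_ G hG
  · have : Subsingleton (H.presheaf.stalk y) := by
      have := Modules.Support.not_mem_support_iff.mp
        (show y ∉ CohB1.support H by rw [(Modules.Support.support_eq_empty_iff).mpr hH]; simp)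
      exact this
    simp [sym_isZero l hl hH, Module.length_eq_zero]
  · have e := sym_add hfin hd l hl hS h₁.1 h₂.1 h₃.1
    have e' := congrArg ENat.toNat (Cyc.SheafLen.length_additive S hS y)
    rw [ENat.toNat_add (hfinlen _ h₁) (hfinlen _ h₃)] at e'
    have e'' : ((Module.length (X.presheaf.stalk y) (S.X₂.presheaf.stalk y)).toNat : ℤ) =
        (Module.length (X.presheaf.stalk y) (S.X₁.presheaf.stalk y)).toNat +
          (Module.length (X.presheaf.stalk y) (S.X₃.presheaf.stalk y)).toNat := by exact_mod_cast e'
    refine ⟨fun a b => ?_, fun a b => ?_, fun a b => ?_⟩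
    · rw [e, a, b, e'', add_mul]
    · rw [e'', add_mul] at a; linarith
    · rw [e'', add_mul] at b; linarith
  · intro z hz
    refine ⟨Cyc.closureStructureSheaf z, Devissage.Closure.cohIn_closureStructureSheaf z,
      Devissage.Closure.length_closureStructureSheaf z, ?_⟩
    by_cases hzy : z = y
    · subst hzy
      rw [Devissage.Closure.length_closureStructureSheaf z]
      simp
    · have hzy' : y ⤳ z := specializes_iff_mem_closure.mpr hz
      have hlt : topologicalKrullDim (closure {z} : Set X) < (l.length : WithBot ℕ∞) := by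
        refine lt_of_le_of_ne ((Devissage.Dim.dim_closure_le isClosed_closure hz).trans hy) fun e => ?_
        exact hzy (Devissage.Dim.eq_of_specializes hzy' e hy).symm
      have hy0 : y ∉ CohB1.support (Cyc.closureStructureSheaf z) := fun h =>
        hzy (hzy'.antisymm (specializes_iff_mem_closure.mpr
          (Devissage.Closure.support_closureStructureSheaf z h))).eq.symm
      haveI := Modules.Support.not_mem_support_iff.mp hy0
      rw [IH _ (Devissage.Closure.isCoh_closureStructureSheaf z)
        (lt_of_le_of_lt
          (Devissage.Dim.dim_mono (Devissage.Closure.support_closureStructureSheaf z)) hlt)]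
      simp [Module.length_eq_zero]

/-- Snapper: with more invertible modules than the dimension of the support the symbol vanishes. -/
theorem sym_eq_zero [IsNoetherian X] (hfin : Chi.CohFinite k X) (hd : topologicalKrullDim X ≤ d) :
    ∀ (l : List X.Modules) (_ : ∀ M ∈ l, PicF.IsInvertible M) (F : X.Modules) (_ : Coh.IsCoh F),
      topologicalKrullDim (CohB1.support F) < (l.length : WithBot ℕ∞) → sym k X d l F = 0
  | [], hl, F, _, hlt => by
    refine sym_isZero [] hl ?_
    rw [← Modules.Support.support_eq_empty_iff]
    by_contra hne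
    obtain ⟨x, hx⟩ := Set.nonempty_iff_ne_empty.mpr hne
    haveI : Nonempty (CohB1.support F) := ⟨⟨x, hx⟩⟩
    haveI : Nonempty (IrreducibleCloseds (CohB1.support F)) :=
      ⟨⟨closure {⟨x, hx⟩}, isIrreducible_singleton.closure, isClosed_closure⟩⟩
    have h0 : (0 : WithBot ℕ∞) ≤ topologicalKrullDim (CohB1.support F) := Order.krullDim_nonneg
    exact absurd hlt (not_lt.mpr (by simpa using h0))
  | M :: l, hl, F, hF, hlt => by
    have hM := hl M (by simp)
    have hl' : ∀ N ∈ l, PicF.IsInvertible N := fun N hN => hl N (by simp [hN])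
    have IH := sym_eq_zero hfin hd l hl'
    haveI := hF.2
    have hdimT : topologicalKrullDim (CohB1.support F) ≤ l.length :=
      le_of_lt_succ (by simpa using hlt)
    rw [sym_cons, sub_eq_zero]
    refine ProperFin.Devissage.devissage
      (fun G => sym k X d l G = sym k X d l (CohB1.tensorMod M G))
      ⟨CohB1.support F, Modules.Support.isClosed_support F⟩ ⟨fun G hG => ?_, fun S hS h₁ h₂ h₃ => ?_⟩
      ?_ F ⟨hF, subset_rfl⟩
    · have hG' : IsZero (CohB1.tensorMod M G) := by
        rw [← Modules.Support.support_eq_empty_iff, Twist.support_twist hM,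
          Modules.Support.support_eq_empty_iff]
        exact hG
      rw [sym_isZero l hl' hG, sym_isZero l hl' hG']
    · have e := sym_add hfin hd l hl' hS h₁.1 h₂.1 h₃.1
      have e' := sym_add hfin hd l hl' (Twist.twistSeq_shortExact hM hS) (Twist.isCoh_twist hM h₁.1)
        (Twist.isCoh_twist hM h₂.1) (Twist.isCoh_twist hM h₃.1)
      simp only [Twist.twistSeq] at e'
      exact ⟨fun a b => by linarith, fun a b => by linarith, fun a b => by linarith⟩
    · intro y hy
      refine ⟨Cyc.closureStructureSheaf y, Devissage.Closure.cohIn_closureStructureSheaf y,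
        Devissage.Closure.length_closureStructureSheaf y, ?_⟩
      have hdy : topologicalKrullDim (closure {y} : Set X) ≤ l.length :=
        (Devissage.Dim.dim_closure_le (Modules.Support.isClosed_support F) hy).trans hdimT
      have h := sym_eq_length_mul hfin hd l hl' IH y hdy
        (CohB1.tensorMod M (Cyc.closureStructureSheaf y))
        ⟨Twist.isCoh_twist hM (Devissage.Closure.isCoh_closureStructureSheaf y),
          by rw [Twist.support_twist hM]; exact Devissage.Closure.support_closureStructureSheaf y⟩
      rw [h, Twist.length_twist hM, Devissage.Closure.length_closureStructureSheaf y]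
      simp

end Groth.Agent.Lib.Snapper.Vanish
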